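import Groth.Agent.DualLib.Lichtenbaum
import Groth.Agent.CohGab24.Restrict
import Groth.Agent.Coherent.ProperFinite
import Groth.Agent.SerreDual.PushEquiv
import Groth.Agent.AmpleLib.CounitEpi
import Groth.Agent.EulerLib.SupportVanishing

/-!
# Finiteness of the top cohomology of a separated scheme of finite type over a field
-/

set_option autoImplicit false
set_option backward.isDefEq.respectTransparency false
set_option linter.style.haveILetI false

universe u

open CategoryTheory CategoryTheory.Limits AlgebraicGeometry Opposite TopologicalSpace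
open Groth.Agent.Coherent Groth.Agent.PicLib

namespace Groth.Agent.TopFin24

/-- A dense affine open immersion into a proper scheme of the same dimension. -/
theorem exists_affine_compactification {k : Type u} [Field k] {U : Scheme.{u}}
    (f : U ⟶ Spec (CommRingCat.of k)) [IsSeparated f] [LocallyOfFiniteType f] [QuasiCompact f] {d : ℕ}
    (hd : topologicalKrullDim U ≤ d) :
    ∃ (P : Scheme.{u}) (j : U ⟶ P) (p : P ⟶ Spec (CommRingCat.of k)),
      IsOpenImmersion j ∧ IsAffineHom j ∧ IsProper p ∧ j ≫ p = f ∧ DenseRange j ∧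
        topologicalKrullDim P ≤ (d : WithBot ℕ∞) := by
  obtain ⟨X₁, j₁, p₁, hj₁, hqc, hp₁, e₁⟩ := FlatMorAdm.compactifiable f
  haveI := hj₁; haveI := hqc; haveI := hp₁
  haveI : IsLocallyNoetherian X₁ := LocallyOfFiniteType.isLocallyNoetherian p₁
  haveI : CompactSpace X₁ := QuasiCompact.compactSpace_of_compactSpace p₁
  obtain ⟨X₂, j₂, b, hj₂a, hb, e₂⟩ := H8Lim.exists_isAffineHom_into_proper j₁
  haveI := hj₂a; haveI := hb
  haveI : IsImmersion j₂ := by
    have : IsImmersion (j₂ ≫ b) := e₂ ▸ inferInstance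
    exact IsImmersion.of_comp j₂ b
  let j := j₂.toImage
  haveI : IsOpenImmersion j := inferInstanceAs (IsOpenImmersion j₂.toImage)
  haveI : IsAffineHom j := by
    have : IsAffineHom (j₂.toImage ≫ j₂.imageι) := by rw [Scheme.Hom.toImage_imageι]; infer_instance
    exact IsAffineHom.of_comp j₂.toImage j₂.imageι
  let p := j₂.imageι ≫ b ≫ p₁
  haveI : IsProper p := inferInstance
  letI : j₂.image.Over (Spec (CommRingCat.of k)) := ⟨p⟩
  haveI : IsProper (j₂.image ↘ Spec (CommRingCat.of k)) := ‹IsProper p›
  have hjp : j ≫ p = f := by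
    show j₂.toImage ≫ j₂.imageι ≫ b ≫ p₁ = f
    rw [Scheme.Hom.toImage_imageι_assoc, reassoc_of% e₂, e₁]
  have hdense : DenseRange j := (inferInstance : IsDominant j₂.toImage).denseRange
  refine ⟨j₂.image, j, p, inferInstance, inferInstance, inferInstance, hjp, hdense, ?_⟩
  refine TopDim.dim_le_iff.2 fun l => ?_
  obtain ⟨C, hC, hle⟩ := exists_mem_irreducibleComponents_subset_of_isIrreducible _ l.last.isIrreducible
  refine (TopDim.le_dim_of_subset l C hle).trans ?_
  obtain ⟨η, hη⟩ := QuasiSober.sober hC.1 (isClosed_of_mem_irreducibleComponents C hC)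
  rw [← hη.def]
  have hηU : η ∈ j.opensRange := by
    haveI : IsNoetherian j₂.image := EulerLib.isNoetherian_of_proper (k := k) (X := j₂.image)
    obtain ⟨O, hO, hne, hOC⟩ := NoetherianSpace.exists_isOpen_nonempty_subset_irreducibleComponent C hC
    obtain ⟨v, hvO, hvU⟩ := hdense.inter_open_nonempty _ hO hne
    exact (hη.specializes (hOC hvO)).mem_open j.opensRange.isOpen hvU
  rw [← DualLib.Lichtenbaum.dim_inter_closure p j.opensRange hηU]
  refine ((Topology.IsEmbedding.inclusion Set.inter_subset_left).isInducing.topologicalKrullDim_le).trans ?_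
  exact (le_of_eq (EGA43.DimFormula.topologicalKrullDim_eq_of_range j j.isOpenEmbedding.isEmbedding _ rfl)).trans hd

/-- The complement of a dense open has smaller dimension. -/
theorem dim_compl_lt {P : Scheme.{u}} [IsNoetherian P] (V : P.Opens) (hV : Dense (V : Set P)) {d : ℕ}
    (hd : topologicalKrullDim P ≤ (d : WithBot ℕ∞)) :
    topologicalKrullDim ↥((V : Set P)ᶜ) < (d : WithBot ℕ∞) := by
  by_contra h
  obtain ⟨η, hη, hle⟩ := DualLib.Lichtenbaum.exists_closure_dim_ge V.2.isClosed_compl h
  obtain ⟨C, hC, hηC⟩ := exists_mem_irreducibleComponents_subset_of_isIrreducible _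
    (isIrreducible_singleton (x := η)).closure
  obtain ⟨ξ, hξ⟩ := QuasiSober.sober hC.1 (isClosed_of_mem_irreducibleComponents C hC)
  obtain ⟨O, hO, hne, hOC⟩ := NoetherianSpace.exists_isOpen_nonempty_subset_irreducibleComponent C hC
  obtain ⟨v, hvO, hvV⟩ := hV.inter_open_nonempty _ hO hne
  have hξV : ξ ∈ V := (hξ.specializes (hOC hvO)).mem_open V.isOpen hvV
  refine not_lt.2 hle (EulerLib.dim_lt_of_notMem isClosed_closure hηC
    (isClosed_of_mem_irreducibleComponents C hC) hξ.def (fun h' => ?_)
    ((Topology.IsInducing.subtypeVal.topologicalKrullDim_le).trans hd))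
  exact V.2.isClosed_compl.closure_subset_iff.2 (Set.singleton_subset_iff.2 hη) h' hξV

/-- Top cohomology of a coherent module on a separated scheme of finite type is finite. -/
theorem finite_HH_top (k : Type u) [Field k] (X : Scheme.{u}) [X.Over (Spec (CommRingCat.of k))]
    [IsSeparated (X ↘ Spec (CommRingCat.of k))] [LocallyOfFiniteType (X ↘ Spec (CommRingCat.of k))]
    [QuasiCompact (X ↘ Spec (CommRingCat.of k))]
    (F : X.Modules) (hF : Coh.IsCoh F) (d : ℕ) (hd : topologicalKrullDim X ≤ (d : WithBot ℕ∞)) :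
    Module.Finite k (Coh.HH X F d) := by
  obtain ⟨P, j, p, hj, hja, hp, hjp, hdense, hdim⟩ :=
    exists_affine_compactification (X ↘ Spec (CommRingCat.of k)) hd
  letI : P.Over (Spec (CommRingCat.of k)) := ⟨p⟩
  haveI : IsProper (P ↘ Spec (CommRingCat.of k)) := hp
  haveI : IsNoetherian P := EulerLib.isNoetherian_of_proper (k := k) (X := P)
  haveI : P.IsSeparated := EulerLib.isSeparated_of_proper (X := P) k
  haveI : IsLocallyNoetherian X :=
    LocallyOfFiniteType.isLocallyNoetherian (X ↘ Spec (CommRingCat.of k))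
  haveI : Coh.IsQCoh F := hF.1
  let M := (Coh.push j).obj F
  haveI hMq : Coh.IsQCoh M := isQCoh_push j F
  let U : P.Opens := j.opensRange
  have hG : CohB1.IsFT (M.restrict U.ι) := by
    have h1 : Coh.IsCoh (M.restrict j) :=
      isCoh_iso ((Scheme.Modules.restrictFunctorAdjCounitIso j).app F).symm hF
    have h2 := AmpleLib.isCoh_restrict j.isoOpensRange.inv _ h1
    exact (isCoh_iso ((Scheme.Modules.restrictFunctorCongr j.isoOpensRange_inv_comp.symm ≪≫
      Scheme.Modules.restrictFunctorComp j.isoOpensRange.inv j).app M).symm h2).2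
  obtain ⟨G', i', e', hi', hG'q, hG'ft, he'⟩ := exists_finiteType_extension_qcqs (F := M) U
    (𝟙 (M.restrict U.ι)) hG (NoetherianSpace.isCompact _)
  have hiso : IsIso ((Scheme.Modules.restrictFunctor U.ι).map i') := by
    rw [← he', Category.comp_id]; infer_instance
  have hsupp := ((CohGab24.support_iff i' U).2 hiso).2
  haveI : Mono i' := hi'
  let S : ShortComplex P.Modules := ShortComplex.mk i' (cokernel.π i') (cokernel.condition i')
  have hS : S.ShortExact :=
    { exact := ShortComplex.exact_of_g_is_cokernel _ (cokernelIsCokernel i')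
      mono_f := hi'
      epi_g := inferInstanceAs (Epi (cokernel.π i')) }
  haveI := hG'q
  haveI : Coh.IsQCoh (cokernel i') := isQCoh_cokernel i'
  haveI hsub : Subsingleton (Coh.HH P (cokernel i') d) :=
    EulerLib.subsingleton_HH_of_support ⟨(U : Set P)ᶜ, U.2.isClosed_compl⟩ _ inferInstance hsupp d
      (dim_compl_lt U (by rw [Scheme.Hom.coe_opensRange]; exact hdense) hdim)
  let φ := baseHom k P
  haveI h3 : Module.Finite k (HA φ S.X₃ (⊤ : P.Opens) d) :=
    (finite_HH_iff k (cokernel i') d).1 inferInstance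
  haveI h1 : Module.Finite k (HA φ S.X₁ (⊤ : P.Opens) d) :=
    finCoh_of_isProper (P ↘ Spec (CommRingCat.of k)) G' ⟨hG'q, hG'ft⟩ d
  haveI : Module.Finite k (Coh.HH P M d) := (finite_HH_iff k M d).2 (finite_middle φ hS ⊤ d)
  exact Module.Finite.equiv (SerreDual.hpush j k hjp F d).symm

end Groth.Agent.TopFin24
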